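import Mathlib.RingTheory.PowerSeries.Substitution
import Mathlib.RingTheory.PowerSeries.Order
import Mathlib.RingTheory.PowerSeries.Inverse
import Mathlib.Algebra.Ring.GeomSum
import Mathlib.Algebra.CharP.Basic

/-! The automorphism `t ↦ t (1 + t^n)^(-1/n)` of `k⟦t⟧` attached to an Artin–Schreier break. -/

universe u

namespace Groth.Agent.ASCoverLib

open PowerSeries

variable {k : Type u} [Field k]

/-- The substitution `X ↦ X * u`. -/
noncomputable def sig (u : k⟦X⟧) : k⟦X⟧ →ₐ[k] k⟦X⟧ :=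
  substAlgHom (R := k) (HasSubst.of_constantCoeff_zero' (a := X * u) (by simp))

theorem sig_apply (u f : k⟦X⟧) : sig u f = subst (X * u) f :=
  congrFun (coe_substAlgHom _) f

theorem sig_X (u : k⟦X⟧) : sig u X = X * u := substAlgHom_X _

theorem sig_X_pow_mul (u : k⟦X⟧) (m : ℕ) (f : k⟦X⟧) : sig u (X ^ m * f) = X ^ m * u ^ m * sig u f := by
  rw [map_mul, map_pow, sig_X, mul_pow]

theorem sig_C (u : k⟦X⟧) (c : k) : sig u (C c) = C c := by
  rw [show (C c : k⟦X⟧) = algebraMap k k⟦X⟧ c from rfl, AlgHom.commutes]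

theorem X_dvd_sig_sub (u f : k⟦X⟧) : X ∣ sig u f - f := by
  have h := eq_X_mul_shift_add_const f
  refine ⟨u * sig u (mk fun p => coeff (p + 1) f) - (mk fun p => coeff (p + 1) f), ?_⟩
  conv_lhs => rw [h]
  rw [map_add, map_mul, sig_X, sig_C]
  ring

theorem constantCoeff_sig (u f : k⟦X⟧) : constantCoeff (sig u f) = constantCoeff f := by
  have := X_dvd_iff.mp (X_dvd_sig_sub u f)
  rwa [map_sub, sub_eq_zero] at this

theorem eq_of_pow_eq {n : ℕ} (hn : (n : k) ≠ 0) {a b : k⟦X⟧} (ha : constantCoeff a = 1)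
    (hb : constantCoeff b = 1) (h : a ^ n = b ^ n) : a = b := by
  have h1 := geom_sum₂_mul a b n
  rw [h, sub_self] at h1
  refine sub_eq_zero.mp ((mul_eq_zero.mp h1).resolve_left fun h2 => hn ?_)
  have := congrArg constantCoeff h2
  simpa [ha, hb] using this

theorem root_sub_one {n : ℕ} (hn : (n : k) ≠ 0) {w : k⟦X⟧} (hw : constantCoeff w = 1) (c : k)
    (h : w ^ n * (1 + c • X ^ n) = 1) : ∃ γ : k⟦X⟧, w - 1 = X ^ n * γ ∧ (n : k) * constantCoeff γ = -c := by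
  have hn0 : n ≠ 0 := fun e => hn (by simp [e])
  set S := ∑ i ∈ Finset.range n, w ^ i with hS
  have hS0 : constantCoeff S = (n : k) := by simp [hS, hw]
  have hSu : IsUnit S := isUnit_iff_constantCoeff.mpr (by rw [hS0]; exact hn.isUnit)
  obtain ⟨Su, hSu⟩ := hSu
  have h1 : S * (w - 1) = X ^ n * (-(c • w ^ n)) := by
    rw [geom_sum_mul]
    simp only [smul_eq_C_mul] at h ⊢
    linear_combination h
  refine ⟨(↑Su⁻¹ : k⟦X⟧) * (-(c • w ^ n)), ?_, ?_⟩
  · rw [mul_left_comm, ← h1, ← hSu, Units.inv_mul_cancel_left]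
  · have h2 : constantCoeff (↑Su⁻¹ : k⟦X⟧) * (n : k) = 1 := by
      rw [← hS0, ← hSu, ← map_mul, Units.inv_mul, map_one]
    rw [map_mul, map_neg, smul_eq_C_mul, map_mul, constantCoeff_C, map_pow, hw, one_pow, mul_one,
      ← mul_assoc, mul_comm (n : k), h2, one_mul]

theorem pow_sub_one {n : ℕ} (hn : 0 < n) {U γ : k⟦X⟧} (h : U - 1 = X ^ n * γ) (b : ℕ) :
    ∃ δ, U ^ b - 1 = X ^ n * δ ∧ constantCoeff δ = (b : k) * constantCoeff γ := by
  have hU : constantCoeff U = 1 := by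
    have := congrArg constantCoeff h
    simpa [hn.ne', sub_eq_zero] using this
  induction b with
  | zero => exact ⟨0, by simp, by simp⟩
  | succ b ih =>
    obtain ⟨δ, hδ, hδ0⟩ := ih
    refine ⟨δ + U ^ b * γ, ?_, by simp [hδ0, hU]; ring⟩
    rw [mul_add, ← hδ, mul_left_comm, ← h]
    ring

theorem zpow_sub_one {n : ℕ} (hn : 0 < n) {U : k⟦X⟧ˣ} {γ : k⟦X⟧} (h : (U : k⟦X⟧) - 1 = X ^ n * γ) (b : ℤ) :
    ∃ δ, ((U ^ b : k⟦X⟧ˣ) : k⟦X⟧) - 1 = X ^ n * δ ∧ constantCoeff δ = (b : k) * constantCoeff γ := by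
  obtain ⟨b, rfl | rfl⟩ := Int.eq_nat_or_neg b
  · obtain ⟨δ, h1, h2⟩ := pow_sub_one hn h b
    exact ⟨δ, by rw [zpow_natCast, Units.val_pow_eq_pow_val]; exact h1, by push_cast; exact h2⟩
  · have hU : constantCoeff (U : k⟦X⟧) = 1 := by
      have := congrArg constantCoeff h
      simpa [hn.ne', sub_eq_zero] using this
    have hinv : ((U⁻¹ : k⟦X⟧ˣ) : k⟦X⟧) - 1 = X ^ n * (-((U⁻¹ : k⟦X⟧ˣ) : k⟦X⟧) * γ) := by
      rw [mul_left_comm, ← h, mul_sub, neg_mul, Units.inv_mul]; ring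
    obtain ⟨δ, h1, h2⟩ := pow_sub_one hn hinv b
    refine ⟨δ, by rw [zpow_neg, zpow_natCast, ← inv_pow, Units.val_pow_eq_pow_val]; exact h1, ?_⟩
    have h3 : constantCoeff ((U⁻¹ : k⟦X⟧ˣ) : k⟦X⟧) = 1 := by
      have := congrArg constantCoeff (U.inv_mul)
      simpa [hU] using this
    simp [h2, h3]

theorem X_pow_dvd_sig_sub {n : ℕ} {u : k⟦X⟧} (hu : X ^ n ∣ u - 1) :
    ∀ N ≤ n + 1, ∀ f : k⟦X⟧, X ^ N ∣ sig u f - f := by
  intro N
  induction N with
  | zero => intro _ f; simp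
  | succ N ih =>
    intro hN f
    set f' := mk fun p => coeff (p + 1) f
    have e : sig u f - f = X * ((u - 1) * sig u f' + (sig u f' - f')) := by
      conv_lhs => rw [eq_X_mul_shift_add_const f]
      rw [map_add, map_mul, sig_X, sig_C]
      ring
    rw [e, pow_succ']
    exact mul_dvd_mul_left _ (dvd_add (((pow_dvd_pow X (by omega)).trans hu).mul_right _) (ih (by omega) f'))

/-- The factors `σ^l(X)/X` of the iterates. -/
noncomputable def iter (u : k⟦X⟧) : ℕ → k⟦X⟧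
  | 0 => 1
  | l + 1 => u * sig u (iter u l)

variable (p : ℕ) [Fact p.Prime] [CharP k p] {n : ℕ} {u : k⟦X⟧}

theorem cast_ne_zero_of_not_dvd (hpn : ¬ p ∣ n) : (n : k) ≠ 0 := fun h =>
  hpn ((CharP.cast_eq_zero_iff k p n).mp h)

omit [Fact p.Prime] [CharP k p] in
theorem iter_spec (hu1 : constantCoeff u = 1) (hun : u ^ n * (1 + X ^ n) = 1) (l : ℕ) :
    constantCoeff (iter u l) = 1 ∧ iter u l ^ n * (1 + (l : k) • X ^ n) = 1 := by
  induction l with
  | zero => simp [iter]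
  | succ l ih =>
    obtain ⟨h1, h2⟩ := ih
    refine ⟨by simp [iter, hu1, constantCoeff_sig, h1], ?_⟩
    have h3 := congrArg (sig u) h2
    simp only [map_mul, map_pow, map_add, map_one, map_smul, sig_X, mul_pow] at h3
    simp only [iter, mul_pow, Nat.cast_succ, add_smul, one_smul, smul_eq_C_mul] at h3 ⊢
    linear_combination h3 + sig u (iter u l) ^ n * (C (l : k) * X ^ n * 0 + 1) * hun

theorem exists_invariant_unit (hn : 0 < n) (hpn : ¬ p ∣ n) (hu1 : constantCoeff u = 1)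
    (hun : u ^ n * (1 + X ^ n) = 1) :
    ∃ W : k⟦X⟧ˣ, u ^ p * sig u (W : k⟦X⟧) = W ∧ X ^ n ∣ (W : k⟦X⟧) - 1 := by
  have hnk := cast_ne_zero_of_not_dvd (k := k) p hpn
  have hd : ∀ l, X ^ n ∣ iter u l - 1 := fun l => by
    obtain ⟨γ, hγ, -⟩ := root_sub_one hnk (iter_spec hu1 hun l).1 _ (iter_spec hu1 hun l).2
    exact ⟨γ, hγ⟩
  set W := ∏ l ∈ Finset.range p, iter u l with hW
  have hW1 : X ^ n ∣ W - 1 := by
    rw [hW]
    refine Finset.prod_induction _ (fun w => X ^ n ∣ w - 1) (fun a b ha hb => ?_) (by simp) fun l _ => hd l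
    have e : a * b - 1 = a * (b - 1) + (a - 1) := by ring
    rw [e]
    exact dvd_add (hb.mul_left a) ha
  have hWu : IsUnit W := by
    refine isUnit_iff_constantCoeff.mpr ?_
    rw [hW, map_prod]
    simp [(iter_spec hu1 hun _).1]
  refine ⟨hWu.unit, ?_, hW1⟩
  have hp : iter u p = 1 :=
    eq_of_pow_eq hnk (iter_spec hu1 hun p).1 (by simp) (by simpa using (iter_spec hu1 hun p).2)
  show u ^ p * sig u W = W
  rw [hW, map_prod]
  have e : u ^ p * ∏ l ∈ Finset.range p, sig u (iter u l) = ∏ l ∈ Finset.range p, iter u (l + 1) := by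
    simp only [iter, Finset.prod_mul_distrib, Finset.prod_const, Finset.card_range]
  rw [e]
  have h1 := Finset.prod_range_succ (iter u) p
  rw [Finset.prod_range_succ', hp] at h1
  simpa [iter] using h1

theorem units_zpow_invariant {W : k⟦X⟧ˣ} (hu : IsUnit u) (hW : u ^ p * sig u (W : k⟦X⟧) = W) (j : ℤ) :
    ((hu.unit ^ ((p : ℤ) * j) : k⟦X⟧ˣ) : k⟦X⟧) * sig u ((W ^ j : k⟦X⟧ˣ) : k⟦X⟧)
      = ((W ^ j : k⟦X⟧ˣ) : k⟦X⟧) := by
  have h : hu.unit ^ p * Units.map (sig u : k⟦X⟧ →* k⟦X⟧) W = W := Units.ext (by simpa using hW)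
  have h2 : (hu.unit ^ p * Units.map (sig u : k⟦X⟧ →* k⟦X⟧) W) ^ j = W ^ j := by rw [h]
  rw [mul_zpow, ← zpow_natCast, ← zpow_mul, ← map_zpow] at h2
  exact congrArg Units.val h2

/-- An invariant of `h ↦ u^b h(t u)` has order `e` with `p ∣ b + e`. -/
theorem dvd_order_of_invariant (hn : 0 < n) (hpn : ¬ p ∣ n) (hu1 : constantCoeff u = 1)
    (hun : u ^ n * (1 + X ^ n) = 1) (hu : IsUnit u) (b : ℤ) {e : ℕ} {H : k⟦X⟧} (hH : constantCoeff H ≠ 0)
    (hinv : ((hu.unit ^ b : k⟦X⟧ˣ) : k⟦X⟧) * sig u (X ^ e * H) = X ^ e * H) : (p : ℤ) ∣ b + e := by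
  have hnk := cast_ne_zero_of_not_dvd (k := k) p hpn
  obtain ⟨γ, hγ, hγ0⟩ := root_sub_one hnk hu1 1 (by simpa using hun)
  obtain ⟨δ, hδ, hδ0⟩ := zpow_sub_one hn (U := hu.unit) (γ := γ) hγ (b + e)
  have h1 : X ^ e * (((hu.unit ^ (b + e) : k⟦X⟧ˣ) : k⟦X⟧) * sig u H - H) = 0 := by
    rw [zpow_add, zpow_natCast, Units.val_mul, Units.val_pow_eq_pow_val, IsUnit.unit_spec]
    rw [sig_X_pow_mul] at hinv
    linear_combination hinv
  have h2 := (mul_eq_zero.mp h1).resolve_left (pow_ne_zero _ X_ne_zero)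
  obtain ⟨r, hr⟩ := X_pow_dvd_sig_sub ⟨γ, hγ⟩ (n + 1) le_rfl H
  have h3 : X ^ n * (δ * sig u H + X * r) = 0 := by
    rw [pow_succ] at hr
    linear_combination h2 - sig u H * hδ - hr
  have h4 := congrArg constantCoeff ((mul_eq_zero.mp h3).resolve_left (pow_ne_zero _ X_ne_zero))
  simp only [map_add, map_mul, constantCoeff_sig, constantCoeff_X, zero_mul, add_zero, map_zero, hδ0,
    mul_eq_zero, hH, or_false] at h4
  rcases h4 with h4 | h4
  · exact (CharP.intCast_eq_zero_iff k p _).mp h4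
  · simp [h4] at hγ0

end Groth.Agent.ASCoverLib
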