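import Groth.Agent.ASCoverLib.Basic
import Mathlib.Algebra.Polynomial.AlgebraMap
import Mathlib.Algebra.CharP.Lemmas

/-! Kernel of the norm and image of `σ - 1` for twisted substitution actions on `k⟦t⟧`. -/

universe u

namespace Groth.Agent.ASCoverLib

open PowerSeries

variable {k : Type u} [Field k]

/-- The twisted operator `h ↦ u^b σ(h)`. -/
noncomputable def tw (u : k⟦X⟧) (U : k⟦X⟧ˣ) (b : ℤ) : k⟦X⟧ →ₗ[k] k⟦X⟧ :=
  LinearMap.mulLeft k ((U ^ b : k⟦X⟧ˣ) : k⟦X⟧) ∘ₗ (sig u).toLinearMap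

theorem tw_apply (u : k⟦X⟧) (U : k⟦X⟧ˣ) (b : ℤ) (h : k⟦X⟧) :
    tw u U b h = ((U ^ b : k⟦X⟧ˣ) : k⟦X⟧) * sig u h := rfl

variable (p : ℕ) [Fact p.Prime] [CharP k p] {n : ℕ} {u : k⟦X⟧}

omit [Fact p.Prime] [CharP k p] in
theorem tw_X_pow_mul (hu : IsUnit u) (b : ℤ) (m : ℕ) (h : k⟦X⟧) :
    tw u hu.unit b (X ^ m * h) = X ^ m * tw u hu.unit (b + m) h := by
  rw [tw_apply, tw_apply, sig_X_pow_mul, zpow_add, zpow_natCast, Units.val_mul, Units.val_pow_eq_pow_val,
    IsUnit.unit_spec]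
  ring

omit [Fact p.Prime] [CharP k p] in
theorem tw_pow_X_pow_mul (hu : IsUnit u) (b : ℤ) (m : ℕ) (l : ℕ) (h : k⟦X⟧) :
    ((tw u hu.unit b) ^ l) (X ^ m * h) = X ^ m * ((tw u hu.unit (b + m)) ^ l) h := by
  induction l generalizing h with
  | zero => simp
  | succ l ih => rw [pow_succ, pow_succ, Module.End.mul_apply, Module.End.mul_apply, tw_X_pow_mul, ih]

omit [Fact p.Prime] [CharP k p] in
theorem tw_pow_one (hu : IsUnit u) (hiter : ∀ l, IsUnit (iter u l)) (b : ℤ) (l : ℕ) :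
    ((tw u hu.unit b) ^ l) 1 = (((hiter l).unit ^ b : k⟦X⟧ˣ) : k⟦X⟧) := by
  induction l with
  | zero =>
    rw [show (hiter 0).unit = 1 from Units.ext (by simp [iter])]
    simp
  | succ l ih =>
    rw [pow_succ', Module.End.mul_apply, ih, tw_apply]
    have h1 : (hiter (l + 1)).unit = hu.unit * Units.map (sig u : k⟦X⟧ →* k⟦X⟧) (hiter l).unit :=
      Units.ext rfl
    rw [h1, mul_zpow, ← map_zpow]
    rfl

/-- Leading term of `T - 1`. -/
theorem lead {γ : k⟦X⟧} (hn : 0 < n) (hγ : u - 1 = X ^ n * γ) (hu : IsUnit u) (b : ℤ) (e : ℕ) (H : k⟦X⟧) :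
    ∃ H', tw u hu.unit b (X ^ e * H) - X ^ e * H = X ^ (e + n) * H' ∧
      constantCoeff H' = ((b + e : ℤ) : k) * constantCoeff γ * constantCoeff H := by
  obtain ⟨δ, hδ, hδ0⟩ := zpow_sub_one hn (U := hu.unit) (γ := γ) hγ (b + e)
  obtain ⟨r, hr⟩ := X_pow_dvd_sig_sub ⟨γ, hγ⟩ (n + 1) le_rfl H
  refine ⟨δ * sig u H + X * r, ?_, by simp [hδ0, constantCoeff_sig]⟩
  rw [tw_X_pow_mul, tw_apply, pow_add]
  rw [pow_succ] at hr
  linear_combination X ^ e * sig u H * hδ + X ^ e * hr

theorem lead_iterate {γ : k⟦X⟧} (hn : 0 < n) (hγ : u - 1 = X ^ n * γ) (hu : IsUnit u) (b : ℤ) (e : ℕ)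
    (H : k⟦X⟧) (l : ℕ) :
    ∃ H', ((tw u hu.unit b - 1) ^ l) (X ^ e * H) = X ^ (e + l * n) * H' ∧
      constantCoeff H' = (∏ i ∈ Finset.range l, ((b + e + i * n : ℤ) : k) * constantCoeff γ) * constantCoeff H := by
  induction l with
  | zero => exact ⟨H, by simp, by simp⟩
  | succ l ih =>
    obtain ⟨H', h1, h2⟩ := ih
    obtain ⟨H'', h3, h4⟩ := lead hn hγ hu b (e + l * n) H'
    refine ⟨H'', ?_, ?_⟩
    · rw [pow_succ', Module.End.mul_apply, h1, LinearMap.sub_apply, Module.End.one_apply, h3]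
      congr 2; ring
    · rw [h4, h2, Finset.prod_range_succ]
      push_cast
      ring

include p in
theorem norm_eq_pow {M : Type*} [AddCommGroup M] [Module k M] (T : Module.End k M) :
    ∑ l ∈ Finset.range p, T ^ l = (T - 1) ^ (p - 1) := by
  have hp : p.Prime := Fact.out
  have key : (∑ l ∈ Finset.range p, (Polynomial.X : Polynomial k) ^ l) = (Polynomial.X - 1) ^ (p - 1) := by
    refine mul_right_cancel₀ (b := Polynomial.X - 1) (Polynomial.X_sub_C_ne_zero 1) ?_
    rw [geom_sum_mul, ← pow_succ, Nat.sub_add_cancel hp.one_le, sub_pow_char, one_pow]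
  have := congrArg (Polynomial.aeval (R := k) T) key
  simpa only [map_sum, map_pow, Polynomial.aeval_X, map_sub, map_one] using this

/-- The leading exponent of a kernel element of the norm avoids one residue class. -/
theorem coeff_eq_zero_of_norm_eq_zero (hn : 0 < n) (hpn : ¬ p ∣ n) (hu1 : constantCoeff u = 1)
    (hun : u ^ n * (1 + X ^ n) = 1) (hu : IsUnit u) (a : ℤ) {f : ℕ} {H : k⟦X⟧}
    (hy : ((tw u hu.unit a - 1) ^ (p - 1)) (X ^ f * H) = 0) (hf : (p : ℤ) ∣ a + f - n) :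
    constantCoeff H = 0 := by
  have hp : p.Prime := Fact.out
  have hnk := cast_ne_zero_of_not_dvd (k := k) p hpn
  obtain ⟨γ, hγ, hγ0⟩ := root_sub_one hnk hu1 1 (by simpa using hun)
  obtain ⟨H', h1, h2⟩ := lead_iterate hn hγ hu a f H (p - 1)
  rw [h1] at hy
  have h3 := congrArg constantCoeff ((mul_eq_zero.mp hy).resolve_left (pow_ne_zero _ X_ne_zero))
  rw [h2, map_zero] at h3
  refine (mul_eq_zero.mp h3).resolve_left (Finset.prod_ne_zero_iff.mpr fun i hi => ?_)
  refine mul_ne_zero (fun hz => ?_) (fun hz => by simp [hz] at hγ0)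
  rw [CharP.intCast_eq_zero_iff k p] at hz
  have h4 : (p : ℤ) ∣ ((i + 1 : ℕ) : ℤ) * (n : ℤ) := by
    obtain ⟨q₁, hq₁⟩ := hz
    obtain ⟨q₂, hq₂⟩ := hf
    exact ⟨q₁ - q₂, by push_cast; linear_combination hq₁ - hq₂⟩
  rw [← Nat.cast_mul, Int.natCast_dvd_natCast] at h4
  rcases hp.dvd_mul.mp h4 with h5 | h5
  · have := Nat.le_of_dvd (by omega) h5
    have := Finset.mem_range.mp hi
    omega
  · exact hpn h5

theorem tw_pow_p_one (hn : 0 < n) (hpn : ¬ p ∣ n) (hu1 : constantCoeff u = 1)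
    (hun : u ^ n * (1 + X ^ n) = 1) (hu : IsUnit u) (b : ℤ) : ((tw u hu.unit b) ^ p) 1 = 1 := by
  have hnk := cast_ne_zero_of_not_dvd (k := k) p hpn
  have hiter : ∀ l, IsUnit (iter u l) := fun l =>
    isUnit_iff_constantCoeff.mpr (by rw [(iter_spec hu1 hun l).1]; exact isUnit_one)
  have hp : iter u p = 1 :=
    eq_of_pow_eq hnk (iter_spec hu1 hun p).1 (by simp) (by simpa using (iter_spec hu1 hun p).2)
  rw [tw_pow_one hu hiter, show (hiter p).unit = 1 from Units.ext hp, one_zpow, Units.val_one]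

/-- The cocycle values of the monomials lie in the kernel of the norm. -/
theorem norm_cocycle_eq_zero (hn : 0 < n) (hpn : ¬ p ∣ n) (hu1 : constantCoeff u = 1)
    (hun : u ^ n * (1 + X ^ n) = 1) (hu : IsUnit u) (a : ℤ) (m : ℕ) (c : k⟦X⟧)
    (hc : X ^ m * c = ((hu.unit ^ (a - m) : k⟦X⟧ˣ) : k⟦X⟧) - 1) :
    ((tw u hu.unit a - 1) ^ (p - 1)) c = 0 := by
  rw [← norm_eq_pow p, LinearMap.sum_apply]
  refine mul_left_cancel₀ (pow_ne_zero m (X_ne_zero (R := k))) ?_
  rw [Finset.mul_sum, mul_zero]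
  have h : ∀ l ∈ Finset.range p, X ^ m * ((tw u hu.unit a) ^ l) c
      = ((tw u hu.unit (a - m)) ^ (l + 1)) 1 - ((tw u hu.unit (a - m)) ^ l) 1 := fun l _ => by
    have := tw_pow_X_pow_mul hu (a - m) m l c
    rw [sub_add_cancel] at this
    rw [← this, hc, pow_succ, Module.End.mul_apply, map_sub, tw_apply, map_one (sig u), mul_one]
  rw [Finset.sum_congr rfl h, Finset.sum_range_sub (fun l => ((tw u hu.unit (a - m)) ^ l) 1),
    tw_pow_p_one p hn hpn hu1 hun hu, pow_zero, Module.End.one_apply, sub_self]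

theorem pow_apply_sub {M : Type*} [AddCommGroup M] [Module k M] (T : Module.End k M) (hT : T ^ p = 1) (x : M) :
    ((T - 1) ^ (p - 1)) ((T - 1) x) = 0 := by
  rw [← norm_eq_pow p, ← Module.End.mul_apply, geom_sum_mul, hT, sub_self, LinearMap.zero_apply]

/-- High order kernel elements of the norm are in the image of `T - 1`. -/
theorem mem_range_of_norm_eq_zero (hn : 0 < n) (hpn : ¬ p ∣ n) (hu1 : constantCoeff u = 1)
    (hun : u ^ n * (1 + X ^ n) = 1) (hu : IsUnit u) (a : ℤ) (hT : (tw u hu.unit a) ^ p = 1) {y : k⟦X⟧}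
    (hy : ((tw u hu.unit a - 1) ^ (p - 1)) y = 0) (hd : X ^ n ∣ y) :
    ∃ h, tw u hu.unit a h - h = y := by
  classical
  have hnk := cast_ne_zero_of_not_dvd (k := k) p hpn
  obtain ⟨γ, hγ, hγ0⟩ := root_sub_one hnk hu1 1 (by simpa using hun)
  set D : Module.End k k⟦X⟧ := tw u hu.unit a - 1 with hD
  let step : ℕ → k⟦X⟧ → k⟦X⟧ := fun e G =>
    G + X ^ e * C (coeff (e + n) (y - D G) / (((a + e : ℤ) : k) * constantCoeff γ))
  let Gs : ℕ → k⟦X⟧ := fun e => Nat.rec (0 : k⟦X⟧) step e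
  have hGs : ∀ e, Gs (e + 1) = step e (Gs e) := fun e => rfl
  have main : ∀ e, X ^ (e + n) ∣ y - D (Gs e) := by
    intro e
    induction e with
    | zero => simpa [Gs] using hd
    | succ e ih =>
      obtain ⟨r, hr⟩ := ih
      have hc : coeff (e + n) (y - D (Gs e)) = constantCoeff r := by
        rw [hr, coeff_X_pow_mul', if_pos le_rfl, Nat.sub_self, coeff_zero_eq_constantCoeff]
      obtain ⟨H', h1, h2⟩ := lead hn hγ hu a e
        (C (coeff (e + n) (y - D (Gs e)) / (((a + e : ℤ) : k) * constantCoeff γ)))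
      have h3 : y - D (Gs (e + 1)) = X ^ (e + n) * (r - H') := by
        rw [mul_sub, ← h1, ← hr, sub_sub, hGs, map_add]
        rfl
      rw [h3, show e + 1 + n = (e + n) + 1 by ring, pow_succ]
      refine mul_dvd_mul_left _ (X_dvd_iff.mpr ?_)
      rw [map_sub, h2, constantCoeff_C, hc]
      by_cases hz : ((a + e : ℤ) : k) * constantCoeff γ = 0
      · rw [hz, zero_mul, sub_zero]
        refine coeff_eq_zero_of_norm_eq_zero p hn hpn hu1 hun hu a (f := e + n) ?_ ?_
        · rw [← hr, map_sub, hy, hD, pow_apply_sub p _ hT, sub_zero]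
        · have h4 := (mul_eq_zero.mp hz).resolve_right (fun h0 => by simp [h0] at hγ0)
          rw [CharP.intCast_eq_zero_iff k p] at h4
          simpa [← add_assoc] using h4
      · rw [mul_div_cancel₀ _ hz, sub_self]
  have stable : ∀ e d, X ^ e ∣ Gs (e + d) - Gs e := by
    intro e d
    induction d with
    | zero => simp
    | succ d ih =>
      have e1 : Gs (e + (d + 1)) - Gs e = X ^ (e + d) * C (coeff (e + d + n) (y - D (Gs (e + d)))
            / (((a + (e + d : ℕ) : ℤ) : k) * constantCoeff γ)) + (Gs (e + d) - Gs e) := by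
        rw [← add_assoc, hGs]; simp only [step]; ring
      rw [e1]
      exact dvd_add ((pow_dvd_pow X (Nat.le_add_right e d)).mul_right _) ih
  set g : k⟦X⟧ := mk fun i => coeff i (Gs (i + 1)) with hg
  have hlim : ∀ e, X ^ e ∣ g - Gs e := fun e => by
    rw [X_pow_dvd_iff]
    intro i hi
    obtain ⟨d, rfl⟩ := Nat.exists_eq_add_of_le (show i + 1 ≤ e by omega)
    have := X_pow_dvd_iff.mp (stable (i + 1) d) i (by omega)
    rw [map_sub, sub_eq_zero] at this
    rw [map_sub, hg, coeff_mk, this, sub_self]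
  have hzero : y - D g = 0 := by
    ext i
    rw [map_zero]
    suffices hsuf : X ^ (i + 1) ∣ y - D g from X_pow_dvd_iff.mp hsuf i (by omega)
    obtain ⟨r, hr⟩ := hlim (i + 1)
    obtain ⟨H', h1, -⟩ := lead hn hγ hu a (i + 1) r
    have e1 : y - D g = (y - D (Gs (i + 1))) - X ^ (i + 1 + n) * H' := by
      rw [← h1, ← hr]
      simp only [hD, LinearMap.sub_apply, Module.End.one_apply, map_sub]
      ring
    rw [e1]
    exact dvd_sub ((pow_dvd_pow X (by omega)).trans (main (i + 1))) ((pow_dvd_pow X (by omega)).mul_right _)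
  refine ⟨g, ?_⟩
  rw [sub_eq_zero] at hzero
  rw [hzero]
  rfl

/-- The cocycle indices. -/
def idxSet (p : ℕ) (n : ℕ) (a : ℤ) : Finset ℕ := (Finset.Icc 1 n).filter (fun m : ℕ => ¬ (p : ℤ) ∣ a - (m : ℤ))

/-- The kernel of the norm is spanned by the cocycles modulo the image of `T - 1`. -/
theorem exists_decomposition (hn : 0 < n) (hpn : ¬ p ∣ n) (hu1 : constantCoeff u = 1)
    (hun : u ^ n * (1 + X ^ n) = 1) (hu : IsUnit u) (a : ℤ) (hT : (tw u hu.unit a) ^ p = 1)
    (c : ℕ → k⟦X⟧)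
    (hc : ∀ m : ℕ, 1 ≤ m → m ≤ n → X ^ m * c m = ((hu.unit ^ (a - m) : k⟦X⟧ˣ) : k⟦X⟧) - 1)
    {y : k⟦X⟧} (hy : ((tw u hu.unit a - 1) ^ (p - 1)) y = 0) :
    ∃ coef : ℕ → k, ∃ h, y = (∑ m ∈ idxSet p n a, coef m • c m) + (tw u hu.unit a h - h) := by
  classical
  have hnk := cast_ne_zero_of_not_dvd (k := k) p hpn
  obtain ⟨γ, hγ, hγ0⟩ := root_sub_one hnk hu1 1 (by simpa using hun)
  set D : Module.End k k⟦X⟧ := tw u hu.unit a - 1 with hD
  have main : ∀ f ≤ n, ∃ coef : ℕ → k, X ^ f ∣ y - ∑ m ∈ idxSet p n a, coef m • c m := by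
    intro f
    induction f with
    | zero => intro _; exact ⟨0, by simp⟩
    | succ f ih =>
      intro hf
      obtain ⟨coef, r, hr⟩ := ih (by omega)
      have hker : (D ^ (p - 1)) (X ^ f * r) = 0 := by
        rw [← hr, map_sub, hy, map_sum, zero_sub, neg_eq_zero]
        refine Finset.sum_eq_zero fun m hm => ?_
        rw [idxSet, Finset.mem_filter, Finset.mem_Icc] at hm
        rw [map_smul, hD, norm_cocycle_eq_zero p hn hpn hu1 hun hu a m (c m) (hc m hm.1.1 hm.1.2), smul_zero]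
      by_cases hdiv : (p : ℤ) ∣ a + f - n
      · refine ⟨coef, ?_⟩
        rw [hr, pow_succ]
        exact mul_dvd_mul_left _
          (X_dvd_iff.mpr (coeff_eq_zero_of_norm_eq_zero p hn hpn hu1 hun hu a hker hdiv))
      · set m := n - f with hm
        have hmem : m ∈ idxSet p n a := by
          rw [idxSet, Finset.mem_filter, Finset.mem_Icc]
          refine ⟨by omega, ?_⟩
          rwa [show a - (m : ℤ) = a + f - n by omega]
        obtain ⟨δ, hδ, hδ0⟩ := zpow_sub_one hn (U := hu.unit) (γ := γ) hγ (a - m)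
        have hcm : c m = X ^ f * δ := by
          refine mul_left_cancel₀ (pow_ne_zero m (X_ne_zero (R := k))) ?_
          rw [hc m (by omega) (by omega), hδ, ← mul_assoc, ← pow_add, show m + f = n by omega]
        have hne : constantCoeff δ ≠ 0 := by
          rw [hδ0]
          refine mul_ne_zero (fun hz => ?_) (fun h0 => by simp [h0] at hγ0)
          rw [CharP.intCast_eq_zero_iff k p] at hz
          exact hdiv (by rwa [show a + f - n = a - (m : ℤ) by omega])
        refine ⟨Function.update coef m (coef m + constantCoeff r / constantCoeff δ), ?_⟩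
        have e1 : ∑ i ∈ idxSet p n a, Function.update coef m (coef m + constantCoeff r / constantCoeff δ) i • c i
            = (∑ i ∈ idxSet p n a, coef i • c i) + (constantCoeff r / constantCoeff δ) • c m := by
          rw [← Finset.add_sum_erase _ _ hmem, ← Finset.add_sum_erase _ (fun i => coef i • c i) hmem,
            Function.update_self, add_smul, Finset.sum_congr rfl fun i hi => by
              rw [Function.update_of_ne (Finset.ne_of_mem_erase hi)]]
          abel
        rw [e1, ← sub_sub, hr, hcm, smul_eq_C_mul, mul_left_comm, ← mul_sub, pow_succ]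
        refine mul_dvd_mul_left _ (X_dvd_iff.mpr ?_)
        rw [map_sub, map_mul, constantCoeff_C, div_mul_cancel₀ _ hne, sub_self]
  obtain ⟨coef, hd⟩ := main n le_rfl
  obtain ⟨h, hh⟩ := mem_range_of_norm_eq_zero p hn hpn hu1 hun hu a hT
    (y := y - ∑ m ∈ idxSet p n a, coef m • c m) (by
      rw [map_sub, hy, map_sum, zero_sub, neg_eq_zero]
      refine Finset.sum_eq_zero fun m hm => ?_
      rw [idxSet, Finset.mem_filter, Finset.mem_Icc] at hm
      rw [map_smul, norm_cocycle_eq_zero p hn hpn hu1 hun hu a m (c m) (hc m hm.1.1 hm.1.2), smul_zero]) hd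
  exact ⟨coef, h, by rw [hh]; ring⟩

omit [Fact p.Prime] [CharP k p] in
theorem card_idxSet (hp : 0 < p) (n : ℕ) (a : ℤ) :
    ((idxSet p n a).card : ℤ) = n - (a - 1) / (p : ℤ) + (a - 1 - n) / (p : ℤ) := by
  induction n with
  | zero => simp [idxSet]
  | succ n ih =>
    have hins : Finset.Icc 1 (n + 1) = insert (n + 1) (Finset.Icc 1 n) := by
      ext x; simp only [Finset.mem_Icc, Finset.mem_insert]; omega
    have hp' : (0 : ℤ) < p := by exact_mod_cast hp
    have hstep : (a - 1 - n) / (p : ℤ) = (a - 1 - (n + 1 : ℕ)) / (p : ℤ)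
        + (if (p : ℤ) ∣ a - ((n + 1 : ℕ) : ℤ) then 1 else 0) := by
      have key : ∀ x : ℤ, x / (p : ℤ) = (x - 1) / (p : ℤ) + (if (p : ℤ) ∣ x then 1 else 0) := by
        intro x
        split_ifs with h
        · obtain ⟨q, rfl⟩ := h
          rw [Int.mul_ediv_cancel_left _ hp'.ne']
          have : ((p : ℤ) * q - 1) / (p : ℤ) = q - 1 := by
            refine Int.ediv_eq_iff_of_pos hp' |>.mpr ⟨?_, ?_⟩ <;> nlinarith
          omega
        · have h1 := Int.emod_add_mul_ediv x (p : ℤ)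
          have h2 := Int.emod_nonneg x hp'.ne'
          have h3 := Int.emod_lt_of_pos x hp'
          have h4 : x % (p : ℤ) ≠ 0 := fun h0 => h (Int.dvd_of_emod_eq_zero h0)
          rw [add_zero, eq_comm]
          refine Int.ediv_eq_iff_of_pos hp' |>.mpr ⟨?_, ?_⟩ <;> nlinarith [lt_of_le_of_ne h2 (Ne.symm h4)]
      have := key (a - ((n + 1 : ℕ) : ℤ))
      rw [show a - 1 - (n : ℤ) = a - ((n + 1 : ℕ) : ℤ) by push_cast; ring,
        show a - 1 - ((n + 1 : ℕ) : ℤ) = a - ((n + 1 : ℕ) : ℤ) - 1 by ring]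
      exact this
    rw [idxSet, hins, Finset.filter_insert]
    rw [idxSet] at ih
    by_cases h : (p : ℤ) ∣ a - ((n + 1 : ℕ) : ℤ)
    · rw [if_neg (not_not.mpr h)]
      rw [if_pos h] at hstep
      push_cast at hstep ⊢
      linarith
    · rw [if_pos h, Finset.card_insert_of_notMem (by simp)]
      rw [if_neg h] at hstep
      push_cast at hstep ⊢
      linarith

end Groth.Agent.ASCoverLib
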