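import Groth.Agent.ASCoverLib.Cyclic
import Groth.Agent.ASCoverLib.Spanning
import Groth.Agent.S13863
import Groth.Agent.S13864
import Mathlib.LinearAlgebra.Dimension.Constructions

/-! The first cohomology of the twisted actions as the span of the monomial cocycles. -/

universe u

namespace Groth.Agent.ASCoverLib

open PowerSeries groupCohomology

variable {k : Type u} [Field k] (p : ℕ) [Fact p.Prime] [CharP k p] {n : ℕ} {u : k⟦X⟧}
variable {G : Type u} [Group G] [Finite G] {g : G}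

omit [Finite G] in
theorem rho_eq_tw (hu : IsUnit u) (a : ℤ) (ρ : Representation k G k⟦X⟧)
    (hρ : ∀ h : k⟦X⟧, ρ g h = ((hu.unit ^ a : k⟦X⟧ˣ) : k⟦X⟧) * subst (X * u) h) :
    ρ g = tw u hu.unit a :=
  LinearMap.ext fun h => by rw [hρ, tw_apply, sig_apply]

omit [CharP k p] [Fact p.Prime] in
theorem tw_pow_card (hu : IsUnit u) (a : ℤ) (hG : Nat.card G = p) (ρ : Representation k G k⟦X⟧)
    (hρ : ∀ h : k⟦X⟧, ρ g h = ((hu.unit ^ a : k⟦X⟧ˣ) : k⟦X⟧) * subst (X * u) h) :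
    (tw u hu.unit a) ^ p = 1 := by
  rw [← rho_eq_tw hu a ρ hρ, ← map_pow, ← hG, pow_card_eq_one', map_one]

/-- Monomial cocycles. -/
theorem exists_cocycle_series (hn : 0 < n) (hpn : ¬ p ∣ n) (hu1 : constantCoeff u = 1)
    (hun : u ^ n * (1 + X ^ n) = 1) (hu : IsUnit u) (a : ℤ) :
    ∃ c : ℕ → k⟦X⟧, ∀ m : ℕ, m ≤ n → X ^ m * c m = ((hu.unit ^ (a - m) : k⟦X⟧ˣ) : k⟦X⟧) - 1 := by
  obtain ⟨γ, hγ, -⟩ := root_sub_one (cast_ne_zero_of_not_dvd (k := k) p hpn) hu1 1 (by simpa using hun)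
  choose δ hδ _ using fun m : ℕ => zpow_sub_one hn (U := hu.unit) (γ := γ) hγ (a - m)
  refine ⟨fun m => X ^ (n - m) * δ m, fun m hm => ?_⟩
  rw [← mul_assoc, ← pow_add, Nat.add_sub_cancel' hm, hδ]

variable (u) in
/-- Classes of combinations of monomial cocycles. -/
noncomputable def classMap (T : Module.End k k⟦X⟧) (c : ℕ → k⟦X⟧) (S : Finset ℕ) :
    (S → k) →ₗ[k] k⟦X⟧ ⧸ LinearMap.range (T - 1) :=
  (LinearMap.range (T - 1)).mkQ ∘ₗ Fintype.linearCombination k (fun m : S => c m.1)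

theorem classMap_injective [IsAlgClosed k] (hn : 0 < n) (hpn : ¬ p ∣ n) (hu1 : constantCoeff u = 1)
    (hun : u ^ n * (1 + X ^ n) = 1) (hu : IsUnit u) (a : ℤ) (c : ℕ → k⟦X⟧)
    (hc : ∀ m : ℕ, m ≤ n → X ^ m * c m = ((hu.unit ^ (a - m) : k⟦X⟧ˣ) : k⟦X⟧) - 1)
    {S : Finset ℕ} (hS : S ⊆ idxSet p n a) : Function.Injective (classMap (tw u hu.unit a) c S) := by
  classical
  rw [← LinearMap.ker_eq_bot, Submodule.eq_bot_iff]
  intro l hl
  rw [LinearMap.mem_ker, classMap, LinearMap.comp_apply, Submodule.mkQ_apply, Submodule.Quotient.mk_eq_zero] at hl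
  obtain ⟨h, hh⟩ := hl
  rw [Fintype.linearCombination_apply] at hh
  have key := Groth.Agent.S13864.result p n hn hpn u hu1 hun hu a c (fun m _ h2 => hc m h2)
    (fun m => if hm : m ∈ S then l ⟨m, hm⟩ else 0) h ?_
  · funext m
    have := key m.1 (hS m.2)
    rwa [dif_pos m.2] at this
  · refine Eq.trans ?_ (hh.trans ?_)
    · rw [LinearMap.sub_apply, Module.End.one_apply, tw_apply, sig_apply]
    · show _ = ∑ m ∈ idxSet p n a, _
      rw [← Finset.sum_subset hS fun m _ hm => by rw [dif_neg hm, zero_smul], ← Finset.sum_coe_sort S]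
      exact Finset.sum_congr rfl fun m _ => by rw [dif_pos m.2]

/-- The span of all the monomial classes is the image of the cocycles. -/
theorem range_evalClass_eq (hn : 0 < n) (hpn : ¬ p ∣ n) (hu1 : constantCoeff u = 1)
    (hun : u ^ n * (1 + X ^ n) = 1) (hu : IsUnit u) (a : ℤ) (hG : Nat.card G = p)
    (hg : ∀ x : G, x ∈ Subgroup.zpowers g) (ρ : Representation k G k⟦X⟧)
    (hρ : ∀ h : k⟦X⟧, ρ g h = ((hu.unit ^ a : k⟦X⟧ˣ) : k⟦X⟧) * subst (X * u) h) (c : ℕ → k⟦X⟧)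
    (hc : ∀ m : ℕ, m ≤ n → X ^ m * c m = ((hu.unit ^ (a - m) : k⟦X⟧ˣ) : k⟦X⟧) - 1) :
    LinearMap.range (evalClass (Rep.of ρ) g) = LinearMap.range (classMap (ρ g) c (idxSet p n a)) := by
  have hT := tw_pow_card p hu a hG ρ hρ
  have he := rho_eq_tw hu a ρ hρ
  apply le_antisymm
  · rintro _ ⟨f, rfl⟩
    have hy : ((tw u hu.unit a - 1) ^ (p - 1)) (evalAt (Rep.of ρ) g f) = 0 := by
      rw [← norm_eq_pow p, LinearMap.sum_apply, ← he]
      exact norm_evalAt (Rep.of ρ) (by rw [← hG, pow_card_eq_one']) f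
    obtain ⟨coef, h, hh⟩ := exists_decomposition p hn hpn hu1 hun hu a hT c (fun m _ h2 => hc m h2) hy
    refine ⟨fun m => coef m.1, ?_⟩
    show _ = Submodule.Quotient.mk (evalAt (Rep.of ρ) g f)
    rw [hh, classMap, LinearMap.comp_apply, Fintype.linearCombination_apply, Submodule.mkQ_apply,
      Finset.sum_coe_sort (idxSet p n a) (fun m => coef m • c m)]
    refine (Submodule.Quotient.eq _).mpr ?_
    refine ⟨-h, ?_⟩
    rw [LinearMap.sub_apply, Module.End.one_apply, he, map_neg]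
    ring
  · rintro _ ⟨l, rfl⟩
    obtain ⟨f, hf⟩ := exists_cocycle (Rep.of ρ) hg (p := p)
      (by rw [orderOf_eq_card_of_forall_mem_zpowers hg, hG]) (Fintype.linearCombination k (fun m : idxSet p n a => c m.1) l) (by
        show ∑ i ∈ Finset.range p, ((ρ g) ^ i) _ = 0
        rw [← LinearMap.sum_apply, norm_eq_pow p, he, Fintype.linearCombination_apply, map_sum]
        refine Finset.sum_eq_zero fun m _ => ?_
        have hm := m.2
        simp only [idxSet, Finset.mem_filter, Finset.mem_Icc] at hm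
        rw [map_smul, norm_cocycle_eq_zero p hn hpn hu1 hun hu a m.1 (c m.1) (hc m.1 hm.1.2), smul_zero])
    exact ⟨f, congrArg Submodule.Quotient.mk hf⟩

end Groth.Agent.ASCoverLib
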