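import Mathlib.RepresentationTheory.Homological.GroupCohomology.LowDegree
import Mathlib.RepresentationTheory.Homological.GroupCohomology.Functoriality
import Mathlib.GroupTheory.OrderOfElement

/-! First cohomology of a cyclic group via the value of a cocycle at a generator. -/

universe u

namespace Groth.Agent.ASCoverLib

open groupCohomology

variable {k G : Type u} [Field k] [Group G] [Finite G] (A : Rep.{u} k G) (g : G)

/-- The value of a cocycle at `g`. -/
noncomputable def evalAt : cocycles₁ A →ₗ[k] A := (LinearMap.proj g).comp (cocycles₁ A).subtype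

theorem cocycle_pow (f : cocycles₁ A) (i : ℕ) :
    f.1 (g ^ i) = ∑ l ∈ Finset.range i, ((A.ρ g) ^ l) (f.1 g) := by
  induction i with
  | zero => rw [pow_zero, Finset.sum_range_zero]; exact cocycles₁_map_one f
  | succ i ih =>
    rw [pow_succ, (mem_cocycles₁_iff f.1).mp f.2, ih, map_pow, Finset.sum_range_succ, add_comm]

variable {g} (hg : ∀ x : G, x ∈ Subgroup.zpowers g)

include hg in
theorem exists_pow_eq (x : G) : ∃ i : ℕ, g ^ i = x := by
  obtain ⟨i, hi⟩ := mem_powers_iff_mem_zpowers.mpr (hg x)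
  exact ⟨i, hi⟩

include hg in
theorem evalAt_injective : Function.Injective (evalAt A g) := by
  intro f₁ f₂ h
  refine Subtype.ext (funext fun x => ?_)
  obtain ⟨i, rfl⟩ := exists_pow_eq hg x
  rw [cocycle_pow, cocycle_pow]
  exact Finset.sum_congr rfl fun l _ => congrArg _ h

theorem mem_coboundaries₁_iff' (f : G → A) :
    f ∈ coboundaries₁ A ↔ ∃ a : A, ∀ x, A.ρ x a - a = f x := by
  constructor
  · rintro ⟨a, rfl⟩; exact ⟨a, fun x => rfl⟩
  · rintro ⟨a, ha⟩; exact ⟨a, funext ha⟩

include hg in
theorem mem_coboundaries_iff (f : cocycles₁ A) :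
    f.1 ∈ coboundaries₁ A ↔ evalAt A g f ∈ LinearMap.range (A.ρ g - 1) := by
  rw [mem_coboundaries₁_iff']
  constructor
  · rintro ⟨a, ha⟩; exact ⟨a, ha g⟩
  · rintro ⟨a, ha⟩
    refine ⟨a, fun x => ?_⟩
    have hd : (fun x => A.ρ x a - a) ∈ cocycles₁ A :=
      (mem_cocycles₁_iff _).2 fun x y => by simp [map_mul, map_sub]
    have := evalAt_injective A hg (a₁ := ⟨_, hd⟩) (a₂ := f) ha
    exact congrFun (congrArg Subtype.val this) x

theorem norm_evalAt {p : ℕ} (hp : g ^ p = 1) (f : cocycles₁ A) :
    ∑ l ∈ Finset.range p, ((A.ρ g) ^ l) (evalAt A g f) = 0 := by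
  refine (cocycle_pow A g f p).symm.trans ?_
  rw [hp]
  exact cocycles₁_map_one f

include hg in
theorem exists_cocycle {p : ℕ} (hp : orderOf g = p) (y : A)
    (hy : ∑ l ∈ Finset.range p, ((A.ρ g) ^ l) y = 0) : ∃ f : cocycles₁ A, evalAt A g f = y := by
  let F : ℕ → A := fun i => ∑ l ∈ Finset.range i, ((A.ρ g) ^ l) y
  have hadd : ∀ i j, F (i + j) = F i + ((A.ρ g) ^ i) (F j) := fun i j => by
    simp only [F, Finset.sum_range_add, map_sum, pow_add, Module.End.mul_apply]
  have hper : ∀ i q, F (i + p * q) = F i := by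
    intro i q
    induction q with
    | zero => simp
    | succ q ih =>
      rw [Nat.mul_succ, ← add_assoc, hadd (i + p * q) p, show F p = 0 from hy, map_zero, add_zero, ih]
  have hcong : ∀ i j, g ^ i = g ^ j → F i = F j := fun i j h => by
    rw [pow_eq_pow_iff_modEq, hp] at h
    rw [← Nat.mod_add_div i p, ← Nat.mod_add_div j p, hper, hper, h]
  choose idx hidx using exists_pow_eq hg
  have hmem : (fun x => F (idx x)) ∈ cocycles₁ A := (mem_cocycles₁_iff _).2 fun a b => by
    rw [hcong (idx (a * b)) (idx a + idx b) (by rw [hidx, pow_add, hidx, hidx]), hadd, add_comm,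
      ← map_pow, hidx]
  refine ⟨⟨_, hmem⟩, ?_⟩
  show F (idx g) = y
  rw [hcong (idx g) 1 (by rw [hidx, pow_one])]
  simp [F]

variable (g) in
/-- The class of the value at `g` modulo the image of `g - 1`. -/
noncomputable def evalClass : cocycles₁ A →ₗ[k] A ⧸ LinearMap.range (A.ρ g - 1) :=
  (LinearMap.range (A.ρ g - 1)).mkQ ∘ₗ evalAt A g

include hg in
theorem ker_H1π_eq : LinearMap.ker (H1π A).hom = LinearMap.ker (evalClass A g) := by
  ext f
  rw [LinearMap.mem_ker, LinearMap.mem_ker, evalClass, LinearMap.comp_apply, Submodule.mkQ_apply,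
    Submodule.Quotient.mk_eq_zero, ← mem_coboundaries_iff A hg f]
  exact H1π_eq_zero_iff f

include hg in
/-- `H¹` is the space of values at a generator modulo the image of `g - 1`. -/
theorem exists_H1_equiv : ∃ e : H1 A ≃ₗ[k] LinearMap.range (evalClass A g),
    ∀ f : cocycles₁ A, (e (H1π A f) : A ⧸ LinearMap.range (A.ρ g - 1)) = evalClass A g f := by
  have hs : Function.Surjective (H1π A).hom := fun x => H1_induction_on x fun f => ⟨f, rfl⟩
  have he := ker_H1π_eq A hg
  refine ⟨((H1π A).hom.quotKerEquivOfSurjective hs).symm.trans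
    ((Submodule.quotEquivOfEq _ _ he).trans (evalClass A g).quotKerEquivRange), fun f => ?_⟩
  have e1 : ((H1π A).hom.quotKerEquivOfSurjective hs).symm (H1π A f) = Submodule.Quotient.mk f := by
    rw [LinearEquiv.symm_apply_eq]; rfl
  simp only [LinearEquiv.trans_apply, e1]
  rfl

end Groth.Agent.ASCoverLib
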